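import Cfsg.Agent.Base
import Cfsg.Agent.ClsK.Large2
import Cfsg.Agent.QuadF.Std
import Cfsg.Agent.Orth.Order

/-!
# The quadratic space of an extraspecial 2-subgroup

For an extraspecial `2`-subgroup `Q` of `G` with centre `{1, z}`, a `Coord Q z q` identifies
`Q / ⟨z⟩` with a vector space `V` over `ZMod 2` such that squaring is the quadratic form `q`.
The normaliser of `Q` acts on `V` by isometries (`Coord.rho`).
-/

set_option autoImplicit false

namespace CL.LEx

open Subgroup CL.ClsK QuadraticMap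
open scoped commutatorElement

variable {G : Type*} [Group G]

/-- `zp z a = z ^ a` for `a : ZMod 2` and an involution `z`. -/
def zp (z : G) (a : ZMod 2) : G := if a = 0 then 1 else z

theorem zmod_two_cases (a : ZMod 2) : a = 0 ∨ a = 1 := by
  revert a; decide

theorem zp_zero (z : G) : zp z 0 = 1 := if_pos rfl

theorem zp_one (z : G) : zp z 1 = z := if_neg (by decide)

theorem zp_eq_or (z : G) (a : ZMod 2) : zp z a = 1 ∨ zp z a = z := by
  rcases zmod_two_cases a with rfl | rfl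
  · exact Or.inl (zp_zero z)
  · exact Or.inr (zp_one z)

theorem exists_zp_eq {z x : G} (h : x = 1 ∨ x = z) : ∃ a, x = zp z a := by
  rcases h with rfl | rfl
  · exact ⟨0, (zp_zero z).symm⟩
  · exact ⟨1, (zp_one x).symm⟩

theorem zp_add {z : G} (hz : z * z = 1) (a b : ZMod 2) : zp z (a + b) = zp z a * zp z b := by
  rcases zmod_two_cases a with rfl | rfl <;> rcases zmod_two_cases b with rfl | rfl
  · simp [zp_zero]
  · simp [zp_zero]
  · simp [zp_zero]
  · rw [show (1 + 1 : ZMod 2) = 0 by decide, zp_zero, zp_one, hz]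

theorem zp_mul_self {z : G} (hz : z * z = 1) (a : ZMod 2) : zp z a * zp z a = 1 := by
  rw [← zp_add hz, CharTwo.add_self_eq_zero, zp_zero]

theorem zp_inv {z : G} (hz : z * z = 1) (a : ZMod 2) : (zp z a)⁻¹ = zp z a :=
  inv_eq_of_mul_eq_one_right (zp_mul_self hz a)

theorem zp_eq_one_iff {z : G} (hz : z ≠ 1) {a : ZMod 2} : zp z a = 1 ↔ a = 0 := by
  rcases zmod_two_cases a with rfl | rfl
  · simp [zp_zero]
  · simp [zp_one, hz]

theorem zp_eq_self_iff {z : G} (hz : z ≠ 1) {a : ZMod 2} : zp z a = z ↔ a = 1 := by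
  rcases zmod_two_cases a with rfl | rfl
  · simp [zp_zero, hz.symm]
  · simp [zp_one]

theorem zp_injective {z : G} (hz : z ≠ 1) : Function.Injective (zp z) := by
  intro a b h
  rcases zmod_two_cases b with rfl | rfl
  · exact (zp_eq_one_iff hz).1 (h.trans (zp_zero z))
  · exact (zp_eq_self_iff hz).1 (h.trans (zp_one z))

theorem zp_comm {z g : G} (h : g * z = z * g) (a : ZMod 2) : g * zp z a = zp z a * g := by
  rcases zp_eq_or z a with h1 | h1 <;> rw [h1]
  · simp
  · exact h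

theorem conj_zp (z g : G) (a : ZMod 2) : g * zp z a * g⁻¹ = zp (g * z * g⁻¹) a := by
  rcases zmod_two_cases a with rfl | rfl
  · simp [zp_zero]
  · simp [zp_one]

theorem map_zp {H : Type*} [Group H] (f : G →* H) (z : G) (a : ZMod 2) :
    f (zp z a) = zp (f z) a := by
  rcases zmod_two_cases a with rfl | rfl
  · simp [zp_zero]
  · simp [zp_one]

theorem add_self_two {V : Type*} [AddCommGroup V] [Module (ZMod 2) V] (v : V) : v + v = 0 := by
  rw [← two_smul (ZMod 2) v, show (2 : ZMod 2) = 0 by decide, zero_smul]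

theorem neg_eq_two {V : Type*} [AddCommGroup V] [Module (ZMod 2) V] (v : V) : -v = v :=
  neg_eq_of_add_eq_zero_left (add_self_two v)

theorem add_eq_zero_iff_two {V : Type*} [AddCommGroup V] [Module (ZMod 2) V] {v w : V} :
    v + w = 0 ↔ v = w := by
  rw [add_eq_zero_iff_eq_neg, neg_eq_two]

/-- Coordinates on `Q / ⟨z⟩`: `π` is the projection onto the quadratic space `(V, q)` and `σ` a
section. -/
structure Coord (Q : Subgroup G) (z : G) {V : Type*} [AddCommGroup V] [Module (ZMod 2) V]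
    (q : QuadraticForm (ZMod 2) V) where
  xs : IsXS Q z
  nondeg : q.polarBilin.Nondegenerate
  π : G → V
  σ : V → G
  σ_mem : ∀ v, σ v ∈ Q
  π_σ : ∀ v, π (σ v) = v
  π_mul : ∀ a ∈ Q, ∀ b ∈ Q, π (a * b) = π a + π b
  π_z : π z = 0
  eq_of_π : ∀ a ∈ Q, π a = 0 → a = 1 ∨ a = z
  sq : ∀ a ∈ Q, a * a = zp z (q (π a))

namespace Coord

variable {Q : Subgroup G} {z : G} {V : Type*} [AddCommGroup V] [Module (ZMod 2) V]
  {q : QuadraticForm (ZMod 2) V} (c : Coord Q z q)

theorem π_one : c.π 1 = 0 := by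
  have := c.π_mul 1 Q.one_mem 1 Q.one_mem
  rw [mul_one, add_self_two] at this
  exact this

theorem π_inv {a : G} (ha : a ∈ Q) : c.π a⁻¹ = c.π a := by
  have := c.π_mul a⁻¹ (Q.inv_mem ha) a ha
  rw [inv_mul_cancel, c.π_one] at this
  exact add_eq_zero_iff_two.1 this.symm

include c in
theorem zp_mem (e : ZMod 2) : zp z e ∈ Q := c.xs.zp_mem (zp_eq_or z e)

theorem π_zp (e : ZMod 2) : c.π (zp z e) = 0 := by
  rcases zp_eq_or z e with h | h <;> rw [h]
  · exact c.π_one
  · exact c.π_z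

theorem π_zp_mul (e : ZMod 2) {a : G} (ha : a ∈ Q) : c.π (zp z e * a) = c.π a := by
  rw [c.π_mul _ (c.zp_mem e) a ha, c.π_zp, zero_add]

theorem π_mul_zp (e : ZMod 2) {a : G} (ha : a ∈ Q) : c.π (a * zp z e) = c.π a := by
  rw [c.π_mul a ha _ (c.zp_mem e), c.π_zp, add_zero]

theorem π_z_mul {a : G} (ha : a ∈ Q) : c.π (z * a) = c.π a := by
  rw [c.π_mul _ c.xs.mem a ha, c.π_z, zero_add]

theorem π_mul_z {a : G} (ha : a ∈ Q) : c.π (a * z) = c.π a := by
  rw [c.π_mul a ha _ c.xs.mem, c.π_z, add_zero]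

theorem π_eq_zero_iff {a : G} (ha : a ∈ Q) : c.π a = 0 ↔ a = 1 ∨ a = z := by
  refine ⟨c.eq_of_π a ha, ?_⟩
  rintro (rfl | rfl)
  · exact c.π_one
  · exact c.π_z

theorem exists_eq_zp_mul {a b : G} (ha : a ∈ Q) (hb : b ∈ Q) (h : c.π a = c.π b) :
    ∃ e, a = zp z e * b := by
  have h1 : c.π (a * b⁻¹) = 0 := by
    rw [c.π_mul a ha _ (Q.inv_mem hb), c.π_inv hb, h, add_self_two]
  obtain ⟨e, he⟩ := exists_zp_eq (c.eq_of_π _ (Q.mul_mem ha (Q.inv_mem hb)) h1)
  exact ⟨e, by rw [← he, inv_mul_cancel_right]⟩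

theorem π_eq_iff {a b : G} (ha : a ∈ Q) (hb : b ∈ Q) : c.π a = c.π b ↔ a = b ∨ a = z * b := by
  constructor
  · intro h
    obtain ⟨e, rfl⟩ := c.exists_eq_zp_mul ha hb h
    rcases zp_eq_or z e with h1 | h1 <;> rw [h1]
    · exact Or.inl (one_mul b)
    · exact Or.inr rfl
  · rintro (rfl | rfl)
    · rfl
    · exact c.π_z_mul hb

theorem exists_eq_zp_mul_σ {a : G} (ha : a ∈ Q) : ∃ e, a = zp z e * c.σ (c.π a) :=
  c.exists_eq_zp_mul ha (c.σ_mem _) (c.π_σ _).symm

theorem π_pow {a : G} (ha : a ∈ Q) (n : ℕ) : c.π (a ^ n) = n • c.π a := by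
  induction n with
  | zero => rw [pow_zero, zero_smul, c.π_one]
  | succ n ih => rw [pow_succ, c.π_mul _ (Q.pow_mem ha n) a ha, ih, succ_nsmul]

theorem π_list_prod (l : List G) (hl : ∀ a ∈ l, a ∈ Q) : c.π l.prod = (l.map c.π).sum := by
  induction l with
  | nil => exact c.π_one
  | cons a l ih =>
    have h1 : ∀ b ∈ l, b ∈ Q := fun b hb => hl b (List.mem_cons_of_mem a hb)
    rw [List.prod_cons, c.π_mul a (hl a List.mem_cons_self) _ (Q.list_prod_mem h1), ih h1,
      List.map_cons, List.sum_cons]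

/-- Commutators are given by the polar form. -/
theorem comm {a b : G} (ha : a ∈ Q) (hb : b ∈ Q) :
    ⁅a, b⁆ = zp z (polar q (c.π a) (c.π b)) := by
  have hz := c.xs.sq
  have h1 : a * b * (a * b) = a * a * ⁅a⁻¹, b⁆ * (b * b) := by
    simp only [commutatorElement_def]; group
  rw [c.xs.comm_inv_left ha hb, c.sq _ (Q.mul_mem ha hb), c.sq a ha, c.sq b hb,
    c.π_mul a ha b hb] at h1
  obtain ⟨e, he⟩ := exists_zp_eq (c.xs.comm a ha b hb)
  rw [he, ← zp_add hz, ← zp_add hz] at h1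
  rw [he, polar, zp_injective c.xs.ne_one h1]
  congr 1
  ring

theorem mul_eq_zp_mul {a b : G} (ha : a ∈ Q) (hb : b ∈ Q) :
    a * b = zp z (polar q (c.π a) (c.π b)) * (b * a) := by
  rw [← c.comm ha hb, commutatorElement_def]; group

theorem conj_eq {a b : G} (ha : a ∈ Q) (hb : b ∈ Q) :
    a * b * a⁻¹ = zp z (polar q (c.π a) (c.π b)) * b := by
  rw [← c.comm ha hb, commutatorElement_def]; group

theorem commute_iff {a b : G} (ha : a ∈ Q) (hb : b ∈ Q) :
    a * b = b * a ↔ polar q (c.π a) (c.π b) = 0 := by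
  rw [← commutatorElement_eq_one_iff_mul_comm, c.comm ha hb, zp_eq_one_iff c.xs.ne_one]

theorem sq_eq_one_iff {a : G} (ha : a ∈ Q) : a * a = 1 ↔ q (c.π a) = 0 := by
  rw [c.sq a ha, zp_eq_one_iff c.xs.ne_one]

theorem sq_eq_z_iff {a : G} (ha : a ∈ Q) : a * a = z ↔ q (c.π a) = 1 := by
  rw [c.sq a ha, zp_eq_self_iff c.xs.ne_one]

include c in
/-- The centre of `Q` is `{1, z}`. -/
theorem cent {a : G} (ha : a ∈ Q) (h : ∀ b ∈ Q, a * b = b * a) : a = 1 ∨ a = z := by
  refine c.eq_of_π a ha (Orth.eq_zero_of_polar c.nondeg fun v => ?_)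
  rw [← c.π_σ v]
  exact (c.commute_iff ha (c.σ_mem v)).1 (h _ (c.σ_mem v))

/-- `a` and `z * a` are conjugate in `Q` for non-central `a`. -/
theorem exists_conj_eq_z_mul {a : G} (ha : a ∈ Q) (h0 : c.π a ≠ 0) :
    ∃ b ∈ Q, b * a * b⁻¹ = z * a := by
  obtain ⟨v, hv⟩ := Orth.exists_polar_ne_zero c.nondeg h0
  refine ⟨c.σ v, c.σ_mem v, ?_⟩
  rw [c.conj_eq (c.σ_mem v) ha, c.π_σ, polar_comm,
    (zmod_two_cases _).resolve_left hv, zp_one]

/-- The bijection `ZMod 2 × V ≃ Q`. -/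
noncomputable def equivProd : ZMod 2 × V ≃ Q :=
  Equiv.ofBijective (fun p => ⟨zp z p.1 * c.σ p.2, Q.mul_mem (c.zp_mem _) (c.σ_mem _)⟩) (by
    constructor
    · rintro ⟨e, v⟩ ⟨e', v'⟩ h
      have h1 : zp z e * c.σ v = zp z e' * c.σ v' := congrArg Subtype.val h
      have h2 : v = v' := by
        have := congrArg c.π h1
        rwa [c.π_zp_mul _ (c.σ_mem _), c.π_zp_mul _ (c.σ_mem _), c.π_σ, c.π_σ] at this
      subst h2
      rw [zp_injective c.xs.ne_one (mul_right_cancel h1)]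
    · rintro ⟨a, ha⟩
      obtain ⟨e, he⟩ := c.exists_eq_zp_mul_σ ha
      exact ⟨(e, c.π a), Subtype.ext he.symm⟩)

include c in
theorem card_eq : Nat.card Q = 2 * Nat.card V := by
  rw [← Nat.card_congr c.equivProd, Nat.card_prod, Nat.card_zmod]

include c in
theorem finite [Finite G] : Finite V :=
  Finite.of_injective c.σ fun v w h => by rw [← c.π_σ v, h, c.π_σ]

/-- Transport of coordinates along an isometry. -/
def congr {V' : Type*} [AddCommGroup V'] [Module (ZMod 2) V'] {q' : QuadraticForm (ZMod 2) V'}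
    (e : V' ≃ₗ[ZMod 2] V) (he : ∀ x, q (e x) = q' x) : Coord Q z q' where
  xs := c.xs
  nondeg := QuadF.nondeg_of_equiv (e := e.symm) c.nondeg fun x => by
    rw [← he, e.apply_symm_apply]
  π a := e.symm (c.π a)
  σ v := c.σ (e v)
  σ_mem _ := c.σ_mem _
  π_σ v := by rw [c.π_σ, e.symm_apply_apply]
  π_mul a ha b hb := by rw [c.π_mul a ha b hb, map_add]
  π_z := by rw [c.π_z, map_zero]
  eq_of_π a ha h := c.eq_of_π a ha (e.symm.map_eq_zero_iff.1 h)
  sq a ha := by rw [c.sq a ha, ← he, e.apply_symm_apply]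

/-- Coordinates on a conjugate. -/
def cj (g : G) : Coord (ClsK.cj g Q) (g * z * g⁻¹) q where
  xs := c.xs.cj g
  nondeg := c.nondeg
  π a := c.π (g⁻¹ * a * g)
  σ v := g * c.σ v * g⁻¹
  σ_mem _ := conj_mem_cj (c.σ_mem _)
  π_σ v := by rw [show g⁻¹ * (g * c.σ v * g⁻¹) * g = c.σ v by group, c.π_σ]
  π_mul a ha b hb := by
    rw [← c.π_mul _ (mem_cj.1 ha) _ (mem_cj.1 hb)]
    congr 1; group
  π_z := by rw [show g⁻¹ * (g * z * g⁻¹) * g = z by group, c.π_z]
  eq_of_π a ha h := by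
    rcases c.eq_of_π _ (mem_cj.1 ha) h with h1 | h1
    · left
      calc a = g * (g⁻¹ * a * g) * g⁻¹ := by group
        _ = 1 := by rw [h1]; group
    · right
      rw [← h1]; group
  sq a ha := by
    rw [← conj_zp, ← c.sq _ (mem_cj.1 ha)]; group

/-- Change of the section: any lifts may be used. -/
def withSection (s : V → G) (hs : ∀ v, s v ∈ Q) (hπ : ∀ v, c.π (s v) = v) : Coord Q z q :=
  { c with σ := s, σ_mem := hs, π_σ := hπ }

/-! ### The action of the normaliser -/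

theorem π_conj_of_π_eq {g : G} (hg : g ∈ normalizer (Q : Set G)) {a b : G} (ha : a ∈ Q)
    (hb : b ∈ Q) (h : c.π a = c.π b) : c.π (g * a * g⁻¹) = c.π (g * b * g⁻¹) := by
  obtain ⟨e, rfl⟩ := c.exists_eq_zp_mul ha hb h
  have h1 : g * (zp z e * b) * g⁻¹ = zp z e * (g * b * g⁻¹) := by
    rw [← mul_assoc, zp_comm (c.xs.conj_z hg)]; group
  rw [h1, c.π_zp_mul _ (conj_mem_of_mem_normalizer hg hb)]

/-- The linear map induced by conjugation with an element of the normaliser. -/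
def actLin (g : normalizer (Q : Set G)) : V →ₗ[ZMod 2] V :=
  AddMonoidHom.toZModLinearMap 2 (AddMonoidHom.mk' (fun v => c.π (g * c.σ v * (g : G)⁻¹)) (by
    intro v w
    rw [← c.π_mul _ (conj_mem_of_mem_normalizer g.2 (c.σ_mem v)) _
      (conj_mem_of_mem_normalizer g.2 (c.σ_mem w)),
      c.π_conj_of_π_eq g.2 (c.σ_mem _) (Q.mul_mem (c.σ_mem v) (c.σ_mem w))
        (by rw [c.π_mul _ (c.σ_mem v) _ (c.σ_mem w), c.π_σ, c.π_σ, c.π_σ])]
    congr 1; group))

theorem actLin_apply (g : normalizer (Q : Set G)) (v : V) :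
    c.actLin g v = c.π (g * c.σ v * (g : G)⁻¹) := rfl

theorem actLin_π (g : normalizer (Q : Set G)) {a : G} (ha : a ∈ Q) :
    c.actLin g (c.π a) = c.π (g * a * (g : G)⁻¹) :=
  c.π_conj_of_π_eq g.2 (c.σ_mem _) ha (c.π_σ _)

theorem actLin_mul (g h : normalizer (Q : Set G)) (v : V) :
    c.actLin (g * h) v = c.actLin g (c.actLin h v) := by
  rw [c.actLin_apply h, c.actLin_π g (conj_mem_of_mem_normalizer h.2 (c.σ_mem v)), actLin_apply]
  congr 1
  simp only [Subgroup.coe_mul]; group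

theorem actLin_one (v : V) : c.actLin 1 v = v := by
  rw [actLin_apply]
  simp [c.π_σ]

theorem q_actLin (g : normalizer (Q : Set G)) (v : V) : q (c.actLin g v) = q v := by
  apply zp_injective c.xs.ne_one
  rw [actLin_apply, ← c.sq _ (conj_mem_of_mem_normalizer g.2 (c.σ_mem v))]
  have h1 := c.sq _ (c.σ_mem v)
  rw [c.π_σ] at h1
  calc (g : G) * c.σ v * (g : G)⁻¹ * (g * c.σ v * (g : G)⁻¹)
      = g * (c.σ v * c.σ v) * (g : G)⁻¹ := by group
    _ = _ := by rw [h1, zp_comm (c.xs.conj_z g.2), mul_inv_cancel_right]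

/-- The action of `N(Q)` on `Q / ⟨z⟩` by isometries. -/
def rhoN : normalizer (Q : Set G) →* Orth.O q :=
  MonoidHom.mk' (fun g => Orth.mkO (c.actLin g) (c.actLin g⁻¹)
    (fun v => by rw [← actLin_mul, mul_inv_cancel, actLin_one])
    (fun v => by rw [← actLin_mul, inv_mul_cancel, actLin_one]) (c.q_actLin g))
    (fun g h => Orth.O_ext fun v => c.actLin_mul g h v)

theorem rhoN_apply (g : normalizer (Q : Set G)) (v : V) :
    (c.rhoN g).1 v = c.π (g * c.σ v * (g : G)⁻¹) := rfl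

theorem rhoN_π (g : normalizer (Q : Set G)) {a : G} (ha : a ∈ Q) :
    (c.rhoN g).1 (c.π a) = c.π (g * a * (g : G)⁻¹) := c.actLin_π g ha

theorem rhoN_eq_one_iff (g : normalizer (Q : Set G)) :
    c.rhoN g = 1 ↔ ∀ a ∈ Q, ⁅(g : G), a⁆ = 1 ∨ ⁅(g : G), a⁆ = z := by
  have key : ∀ a ∈ Q, (c.rhoN g).1 (c.π a) = c.π a ↔ (⁅(g : G), a⁆ = 1 ∨ ⁅(g : G), a⁆ = z) := by
    intro a ha
    have h1 := conj_mem_of_mem_normalizer g.2 ha
    rw [c.rhoN_π g ha, ← c.π_eq_zero_iff (by
      rw [commutatorElement_def]; exact Q.mul_mem h1 (Q.inv_mem ha)), commutatorElement_def,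
      c.π_mul _ h1 _ (Q.inv_mem ha), c.π_inv ha, add_eq_zero_iff_two]
  constructor
  · intro h a ha
    rw [← key a ha, h]; rfl
  · intro h
    refine Orth.O_ext fun v => ?_
    have := (key _ (c.σ_mem v)).2 (h _ (c.σ_mem v))
    rwa [c.π_σ] at this

/-! ### Bases -/

section Basis

variable {ι : Type*} (B : Module.Basis ι (ZMod 2) V) {x : ι → G} (hx : ∀ i, x i ∈ Q)
  (hB : ∀ i, c.π (x i) = B i)

include hx hB in
/-- Lifts of a basis together with `z` generate `Q`. -/
theorem le_of_basis {K : Subgroup G} (hz : z ∈ K) (hK : ∀ i, x i ∈ K) : Q ≤ K := by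
  have hzp : ∀ e, zp z e ∈ K := fun e => by
    rcases zp_eq_or z e with h | h <;> rw [h]
    · exact K.one_mem
    · exact hz
  have key : ∀ v : V, ∃ a ∈ Q, a ∈ K ∧ c.π a = v := by
    intro v
    have hv : v ∈ Submodule.span (ZMod 2) (Set.range B) := by rw [B.span_eq]; trivial
    induction hv using Submodule.span_induction with
    | mem v hv =>
      obtain ⟨i, rfl⟩ := hv
      exact ⟨x i, hx i, hK i, hB i⟩
    | zero => exact ⟨1, Q.one_mem, K.one_mem, c.π_one⟩
    | add v w _ _ h1 h2 =>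
      obtain ⟨a, ha, ha', rfl⟩ := h1
      obtain ⟨b, hb, hb', rfl⟩ := h2
      exact ⟨a * b, Q.mul_mem ha hb, K.mul_mem ha' hb', c.π_mul a ha b hb⟩
    | smul e v _ h1 =>
      rcases zmod_two_cases e with rfl | rfl
      · exact ⟨1, Q.one_mem, K.one_mem, by rw [c.π_one, zero_smul]⟩
      · rwa [one_smul]
  intro a ha
  obtain ⟨b, hb, hb', h⟩ := key (c.π a)
  obtain ⟨e, rfl⟩ := c.exists_eq_zp_mul ha hb h.symm
  exact K.mul_mem (hzp e) hb'

include hx hB in
theorem eq_closure_of_basis : Q = closure (insert z (Set.range x)) := by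
  apply le_antisymm
  · exact c.le_of_basis B hx hB (subset_closure (Set.mem_insert _ _))
      fun i => subset_closure (Set.mem_insert_of_mem _ ⟨i, rfl⟩)
  · rw [closure_le]
    rintro _ (rfl | ⟨i, rfl⟩)
    · exact c.xs.mem
    · exact hx i

include hx hB in
/-- An element commuting with `z` and the lifts of a basis centralises `Q`. -/
theorem comm_of_basis {g : G} (hz : g * z = z * g) (hg : ∀ i, g * x i = x i * g) :
    ∀ a ∈ Q, g * a = a * g := by
  intro a ha
  have := c.le_of_basis B hx hB (K := centralizer {g}) (mem_centralizer_singleton_iff.2 hz.symm)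
    (fun i => mem_centralizer_singleton_iff.2 (hg i).symm) ha
  exact (mem_centralizer_singleton_iff.1 this).symm

include hx hB in
/-- An element commuting with `z` and mapping the lifts of a basis into `Q` normalises `Q`. -/
theorem mem_normalizer_of_basis [Finite G] {g : G} (hz : g * z = z * g)
    (hg : ∀ i, g * x i * g⁻¹ ∈ Q) : g ∈ normalizer (Q : Set G) := by
  refine mem_normalizer_of_conj_mem fun a ha => ?_
  have := c.le_of_basis B hx hB (K := ClsK.cj g⁻¹ Q)
    (by rw [mem_cj, inv_inv, hz, mul_inv_cancel_right]; exact c.xs.mem)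
    (fun i => by rw [mem_cj, inv_inv]; exact hg i) ha
  rwa [mem_cj, inv_inv] at this

include c in
/-- Every sign pattern on a basis is realised by an inner automorphism. -/
theorem exists_polar_eq [Finite ι] (ε : ι → ZMod 2) : ∃ v : V, ∀ i, polar q v (B i) = ε i := by
  have := Module.Finite.of_basis B
  obtain ⟨v, hv⟩ := (LinearMap.BilinForm.toDual q.polarBilin c.nondeg).surjective
    (B.constr (ZMod 2) ε)
  refine ⟨v, fun i => ?_⟩
  have := congrArg (fun f => f (B i)) hv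
  simpa [LinearMap.BilinForm.toDual_def] using this

include hx hB in
/-- If an isometry `γ` is induced by the normaliser, every choice of lifts of the images of the
basis vectors is realised. -/
theorem exists_conj_eq [Finite ι] (g : normalizer (Q : Set G)) {y : ι → G} (hy : ∀ i, y i ∈ Q)
    (h : ∀ i, c.π (y i) = (c.rhoN g).1 (B i)) :
    ∃ a ∈ Q, ∀ i, a * g * x i * (a * g)⁻¹ = y i := by
  have h1 : ∀ i, ∃ e, y i = zp z e * (g * x i * (g : G)⁻¹) := fun i =>
    c.exists_eq_zp_mul (hy i) (conj_mem_of_mem_normalizer g.2 (hx i))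
      (by rw [h, ← hB, c.rhoN_π g (hx i)])
  choose ε hε using h1
  obtain ⟨v, hv⟩ := c.exists_polar_eq (B.map (c.rhoN g).1) ε
  refine ⟨c.σ v, c.σ_mem v, fun i => ?_⟩
  have h2 := c.conj_eq (c.σ_mem v) (conj_mem_of_mem_normalizer g.2 (hx i))
  rw [c.π_σ, ← c.rhoN_π g (hx i), hB, ← Module.Basis.map_apply, hv, ← hε] at h2
  rw [← h2]; group

end Basis

end Coord

/-! ### Existence of coordinates -/

theorem exists_coord [Finite G] {Q : Subgroup G} {z : G} (h : IsXS Q z)
    (hc : ∀ a ∈ Q, (∀ b ∈ Q, a * b = b * a) → a = 1 ∨ a = z) :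
    ∃ (n : ℕ) (q : QuadraticForm (ZMod 2) (Fin n → ZMod 2)), Nonempty (Coord Q z q) := by
  classical
  let N : Subgroup Q := (zpowers z).subgroupOf Q
  have hN : ∀ a : Q, a ∈ N ↔ (a : G) = 1 ∨ (a : G) = z := fun a => by
    rw [mem_subgroupOf, h.mem_zpowers_iff]
  haveI : N.Normal := ⟨fun a ha g => by
    rw [hN] at ha ⊢
    rw [Subgroup.coe_mul, Subgroup.coe_mul, h.zp_comm ha (h.central g g.2), Subgroup.coe_inv,
      mul_inv_cancel_right]
    exact ha⟩
  letI : CommGroup (Q ⧸ N) :=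
    { (inferInstance : Group (Q ⧸ N)) with
      mul_comm := by
        intro a b
        obtain ⟨a, rfl⟩ := QuotientGroup.mk_surjective a
        obtain ⟨b, rfl⟩ := QuotientGroup.mk_surjective b
        rw [← QuotientGroup.mk_mul, ← QuotientGroup.mk_mul, QuotientGroup.eq, hN]
        have := h.comm _ (Q.inv_mem b.2) _ (Q.inv_mem a.2)
        rw [commutatorElement_def, inv_inv, inv_inv] at this
        simpa [mul_assoc] using this }
  letI : Module (ZMod 2) (Additive (Q ⧸ N)) := AddCommGroup.zmodModule (n := 2) (by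
    intro a
    obtain ⟨b, hb⟩ := QuotientGroup.mk_surjective a.toMul
    rw [two_nsmul]
    apply Additive.toMul.injective
    rw [toMul_add, ← hb, ← QuotientGroup.mk_mul, toMul_zero, QuotientGroup.eq_one_iff, hN]
    exact h.sq_mem b b.2)
  let π : G → Additive (Q ⧸ N) := fun a =>
    if ha : a ∈ Q then Additive.ofMul (QuotientGroup.mk ⟨a, ha⟩) else 0
  have hπ : ∀ a (ha : a ∈ Q), π a = Additive.ofMul (QuotientGroup.mk ⟨a, ha⟩) :=
    fun a ha => dif_pos ha
  let σ : Additive (Q ⧸ N) → G := fun v => ((v.toMul.out : Q) : G)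
  have hσ : ∀ v, σ v ∈ Q := fun v => (v.toMul.out : Q).2
  have hπσ : ∀ v, π (σ v) = v := fun v => by
    rw [hπ _ (hσ v)]
    apply Additive.toMul.injective
    exact QuotientGroup.out_eq' _
  have hmul : ∀ a ∈ Q, ∀ b ∈ Q, π (a * b) = π a + π b := fun a ha b hb => by
    rw [hπ _ (Q.mul_mem ha hb), hπ a ha, hπ b hb]; rfl
  have h0 : ∀ a ∈ Q, π a = 0 ↔ a = 1 ∨ a = z := fun a ha => by
    rw [hπ a ha, ofMul_eq_zero, QuotientGroup.eq_one_iff, hN]
  have hπinv : ∀ a ∈ Q, π a⁻¹ = π a := fun a ha => by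
    have := hmul a⁻¹ (Q.inv_mem ha) a ha
    rw [inv_mul_cancel, (h0 1 Q.one_mem).2 (Or.inl rfl)] at this
    exact add_eq_zero_iff_two.1 this.symm
  have hex : ∀ a ∈ Q, ∀ b ∈ Q, π a = π b → ∃ e, a = zp z e * b := fun a ha b hb hab => by
    have h1 : π (a * b⁻¹) = 0 := by
      rw [hmul a ha _ (Q.inv_mem hb), hπinv b hb, hab, add_self_two]
    obtain ⟨e, he⟩ := exists_zp_eq ((h0 _ (Q.mul_mem ha (Q.inv_mem hb))).1 h1)
    exact ⟨e, by rw [← he, inv_mul_cancel_right]⟩
  let f : Additive (Q ⧸ N) → ZMod 2 := fun v => if σ v * σ v = 1 then 0 else 1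
  have hf : ∀ a ∈ Q, a * a = zp z (f (π a)) := fun a ha => by
    obtain ⟨e, he⟩ := hex a ha _ (hσ (π a)) (hπσ _).symm
    have h1 : a * a = σ (π a) * σ (π a) := by
      have h2 := zp_comm (h.central _ (hσ (π a))) e
      calc a * a = zp z e * σ (π a) * (zp z e * σ (π a)) := by rw [← he]
        _ = zp z e * (σ (π a) * zp z e) * σ (π a) := by group
        _ = _ := by rw [h2, ← mul_assoc, zp_mul_self h.sq, one_mul]
    rw [h1]
    by_cases h2 : σ (π a) * σ (π a) = 1
    · rw [show f (π a) = 0 from if_pos h2, zp_zero, h2]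
    · rw [show f (π a) = 1 from if_neg h2, zp_one]
      exact (h.sq_mem _ (hσ _)).resolve_left h2
  have hpol : ∀ a ∈ Q, ∀ b ∈ Q, ⁅a, b⁆ = zp z (polar f (π a) (π b)) := fun a ha b hb => by
    have h1 : a * b * (a * b) = a * a * ⁅a⁻¹, b⁆ * (b * b) := by
      simp only [commutatorElement_def]; group
    rw [h.comm_inv_left ha hb, hf _ (Q.mul_mem ha hb), hf a ha, hf b hb, hmul a ha b hb] at h1
    obtain ⟨e, he⟩ := exists_zp_eq (h.comm a ha b hb)
    rw [he, ← zp_add h.sq, ← zp_add h.sq] at h1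
    rw [he, polar, zp_injective h.ne_one h1]
    congr 1
    ring
  have hf0 : f 0 = 0 := by
    apply zp_injective h.ne_one
    rw [← (h0 1 Q.one_mem).2 (Or.inl rfl), ← hf 1 Q.one_mem, zp_zero, mul_one]
  let q : QuadraticForm (ZMod 2) (Additive (Q ⧸ N)) := QuadraticMap.ofPolar f
    (fun e v => by
      rcases zmod_two_cases e with rfl | rfl
      · simp [hf0]
      · simp)
    (fun u v w => by
      apply zp_injective h.ne_one
      rw [zp_add h.sq, ← hπσ u, ← hπσ v, ← hπσ w, ← hmul _ (hσ u) _ (hσ v),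
        ← hpol _ (Q.mul_mem (hσ u) (hσ v)) _ (hσ w), ← hpol _ (hσ u) _ (hσ w),
        ← hpol _ (hσ v) _ (hσ w), h.comm_mul_left (hσ u) (hσ v) (hσ w)])
    (fun e v w => by
      rcases zmod_two_cases e with rfl | rfl
      · simp [polar, hf0]
      · simp)
  have hq : ⇑q = f := rfl
  let c : Coord Q z q :=
    { xs := h
      nondeg := Orth.nondegenerate_of fun v hv => by
        rw [← hπσ v, h0 _ (hσ v)]
        refine hc _ (hσ v) fun b hb => ?_
        rw [← commutatorElement_eq_one_iff_mul_comm, hpol _ (hσ v) b hb, hπσ, ← hq, hv, zp_zero]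
      π := π, σ := σ, σ_mem := hσ, π_σ := hπσ, π_mul := hmul
      π_z := (h0 z h.mem).2 (Or.inr rfl)
      eq_of_π := fun a ha => (h0 a ha).1
      sq := hf }
  have : Module.Finite (ZMod 2) (Additive (Q ⧸ N)) := Module.Finite.of_finite
  let e := (Module.finBasis (ZMod 2) (Additive (Q ⧸ N))).equivFun.symm
  exact ⟨_, q.comp e.toLinearMap, ⟨c.congr e fun _ => rfl⟩⟩

theorem aniso_one_one (z₁ z₂ : ZMod 2) (h : z₁ ^ 2 + 1 * z₁ * z₂ + 1 * z₂ ^ 2 = 0) :
    z₁ = 0 ∧ z₂ = 0 := by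
  revert z₁ z₂; decide

/-- An extraspecial `2`-group of order `2 ^ (2 * m + 3)` is of plus or of minus type. -/
theorem exists_coord_plus_or_minus [Finite G] {Q : Subgroup G} {z : G} (h : IsXS Q z)
    (hc : ∀ a ∈ Q, (∀ b ∈ Q, a * b = b * a) → a = 1 ∨ a = z) {m : ℕ}
    (hcard : Nat.card Q = 2 ^ (2 * m + 3)) :
    Nonempty (Coord Q z (Orth.qPlus (m + 1) (ZMod 2))) ∨
      Nonempty (Coord Q z (Orth.qMinus m (ZMod 2) 1 1)) := by
  obtain ⟨n, q, ⟨c⟩⟩ := exists_coord h hc
  have hn : n = 2 * m + 2 := by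
    have h1 := c.card_eq
    rw [hcard, Nat.card_fun, Nat.card_zmod, Nat.card_eq_fintype_card, Fintype.card_fin,
      ← pow_succ'] at h1
    have := Nat.pow_right_injective le_rfl h1
    omega
  have hV : Module.finrank (ZMod 2) (Fin n → ZMod 2) = 2 * m + 2 := by simp [hn]
  by_cases hW : ∃ W : Submodule (ZMod 2) (Fin n → ZMod 2),
      Module.finrank (ZMod 2) W = m + 1 ∧ ∀ w ∈ W, q w = 0
  · obtain ⟨W, hW1, hW2⟩ := hW
    obtain ⟨e, he⟩ := QuadF.exists_equiv_plus c.nondeg (m := m + 1) (by rw [hV]; ring) hW2 hW1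
    exact Or.inl ⟨c.congr e fun x => by rw [he, QuadF.coe_qPlus, Orth.coe_qPlus]⟩
  · obtain ⟨e, he⟩ := QuadF.exists_equiv_minus c.nondeg hV hW aniso_one_one
    exact Or.inr ⟨c.congr e fun x => by rw [he, QuadF.coe_qMinus, Orth.coe_qMinus]⟩

end CL.LEx
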