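import Cfsg.Agent.LEx.Basic
import Cfsg.Agent.PLocal.Constraint
import Cfsg.Agent.Even.Core

/-!
# Large extraspecial subgroups: the action of `C(z)` on `Q / ⟨z⟩`

`Coord.rho` is the faithful action of `C(z) / Q` on the quadratic space `Q / ⟨z⟩`.  If the image
has index two it is `Ω`, and every isometry in `Ω` lifts to an element of `C(z)` with prescribed
action on lifts of a basis, uniquely up to `z`.
-/

set_option autoImplicit false

namespace CL.LEx

open Subgroup CL.ClsK QuadraticMap Cfsg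
open scoped commutatorElement

variable {G : Type*} [Group G] {Q : Subgroup G} {z : G}

theorem normalizer_eq_of_isLarge (hL : IsLarge Q z) :
    normalizer (Q : Set G) = centralizer ({z} : Set G) :=
  le_antisymm (fun _ hg => mem_centralizer_singleton_iff.2 (hL.xs.conj_z hg))
    fun g hg => hL.norm g (mem_centralizer_singleton_iff.1 hg)

theorem le_centralizer_of_isXS (h : IsXS Q z) : Q ≤ centralizer ({z} : Set G) :=
  fun a ha => mem_centralizer_singleton_iff.2 (h.central a ha)

/-- A self-centralising extraspecial normal subgroup of `C(z)` is large. -/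
theorem isLarge_of_centralizer_le [Finite G] (h : IsXS Q z)
    (hc : ∀ a ∈ Q, (∀ b ∈ Q, a * b = b * a) → a = 1 ∨ a = z)
    (hn : ∀ g : G, g * z = z * g → g ∈ normalizer (Q : Set G))
    (hC : ∀ g : G, (∀ a ∈ Q, g * a = a * g) → g ∈ Q) : IsLarge Q z := by
  refine ⟨h, hn, fun g hg h1 => ?_⟩
  obtain ⟨a, ha, h2⟩ := h.exists_inner h1 fun b hb hb' => h.zp_comm (hc b hb hb') hg
  have := Q.mul_mem ha (hC _ h2)
  rwa [mul_inv_cancel_left] at this

theorem mem_of_comm_of_isLarge (hL : IsLarge Q z) {g : G} (h : ∀ a ∈ Q, g * a = a * g) : g ∈ Q :=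
  hL.mem g (h z hL.xs.mem) fun a ha =>
    Or.inl (commutatorElement_eq_one_iff_mul_comm.2 (h a ha))

namespace Coord

variable {V : Type*} [AddCommGroup V] [Module (ZMod 2) V] {q : QuadraticForm (ZMod 2) V}
  (c : Coord Q z q) (hL : IsLarge Q z)

include c hL in
/-- `C_G(Q) = ⟨z⟩`. -/
theorem eq_of_comm {g : G} (h : ∀ a ∈ Q, g * a = a * g) : g = 1 ∨ g = z :=
  c.cent (mem_of_comm_of_isLarge hL h) h

/-- The action of `C(z)` on `Q / ⟨z⟩`. -/
def rho : centralizer ({z} : Set G) →* Orth.O q :=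
  c.rhoN.comp (inclusion (normalizer_eq_of_isLarge hL).ge)

theorem rho_apply (g : centralizer ({z} : Set G)) (v : V) :
    (c.rho hL g).1 v = c.π (g * c.σ v * (g : G)⁻¹) := rfl

theorem rho_π (g : centralizer ({z} : Set G)) {a : G} (ha : a ∈ Q) :
    (c.rho hL g).1 (c.π a) = c.π (g * a * (g : G)⁻¹) := c.rhoN_π _ ha

theorem rho_inv_π (g : centralizer ({z} : Set G)) {a : G} (ha : a ∈ Q) :
    (c.rho hL g)⁻¹.1 (c.π a) = c.π ((g : G)⁻¹ * a * g) := by
  rw [← map_inv, c.rho_π hL _ ha, Subgroup.coe_inv, inv_inv]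

theorem rho_eq_one_iff (g : centralizer ({z} : Set G)) : c.rho hL g = 1 ↔ (g : G) ∈ Q := by
  refine (c.rhoN_eq_one_iff _).trans ⟨hL.mem g (mem_centralizer_singleton_iff.1 g.2), ?_⟩
  intro hg a ha
  exact c.xs.comm g hg a ha

theorem ker_rho : (c.rho hL).ker = Q.subgroupOf (centralizer ({z} : Set G)) := by
  ext g
  rw [MonoidHom.mem_ker, c.rho_eq_one_iff hL, mem_subgroupOf]

theorem rho_eq_iff (g h : centralizer ({z} : Set G)) :
    c.rho hL g = c.rho hL h ↔ (g : G)⁻¹ * h ∈ Q := by
  rw [← inv_mul_eq_one, ← map_inv, ← map_mul, c.rho_eq_one_iff hL]; rfl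

theorem card_range_rho :
    Nat.card (c.rho hL).range = Q.relIndex (centralizer ({z} : Set G)) := by
  rw [relIndex, ← c.ker_rho hL, index_ker]

include c hL in
theorem relIndex_dvd : Q.relIndex (centralizer ({z} : Set G)) ∣ Nat.card (Orth.O q) := by
  rw [← c.card_range_rho hL]
  exact card_subgroup_dvd_card _

/-- If the image of `C(z)` has index two in the orthogonal group, it is `Ω`. -/
theorem range_rho_eq [Finite G] (hT : Orth.Tame q) (hV : 1 ≤ Module.finrank (ZMod 2) V)
    (h : Q.relIndex (centralizer ({z} : Set G)) * 2 = Nat.card (Orth.O q)) :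
    (c.rho hL).range = commutator (Orth.O q) := by
  have := c.finite
  have : Module.Finite (ZMod 2) V := Module.Finite.of_finite
  have : Finite (V ≃ₗ[ZMod 2] V) := Finite.of_injective (fun e => (e : V → V)) DFunLike.coe_injective
  have h1 : (c.rho hL).range.index = 2 := by
    have h2 := (c.rho hL).range.card_mul_index
    rw [← h, ← c.card_range_rho hL] at h2
    exact Nat.eq_of_mul_eq_mul_left Nat.card_pos h2
  have h3 := Orth.index_commutator_even (Q := q) (by decide) c.nondeg hT hV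
  have h4 : commutator (Orth.O q) ≤ (c.rho hL).range := by
    have := normal_of_index_eq_two h1
    rw [commutator_def, commutator_le]
    intro a _ b _
    rw [commutatorElement_def, mul_mem_iff_of_index_two h1, mul_mem_iff_of_index_two h1,
      mul_mem_iff_of_index_two h1, inv_mem_iff, inv_mem_iff]
    tauto
  refine (eq_of_le_of_card_ge h4 (le_of_eq ?_)).symm
  have h5 := (c.rho hL).range.card_mul_index
  have h6 := (commutator (Orth.O q)).card_mul_index
  rw [h1] at h5
  rw [h3] at h6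
  omega

section Basis

variable {ι : Type*} (B : Module.Basis ι (ZMod 2) V) {x : ι → G} (hx : ∀ i, x i ∈ Q)
  (hB : ∀ i, c.π (x i) = B i)

include hx hB in
/-- An isometry in the image of `C(z)` lifts with prescribed action on the lifts of a basis. -/
theorem exists_lift [Finite ι] {γ : Orth.O q} (hγ : γ ∈ (c.rho hL).range) {y : ι → G}
    (hy : ∀ i, y i ∈ Q) (h : ∀ i, c.π (y i) = γ.1 (B i)) :
    ∃ g : G, g * z = z * g ∧ ∀ i, g * x i * g⁻¹ = y i := by
  obtain ⟨g, rfl⟩ := hγ
  obtain ⟨a, ha, h1⟩ := c.exists_conj_eq B hx hB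
    (inclusion (normalizer_eq_of_isLarge hL).ge g) hy h
  exact ⟨a * g, ((show Commute a z from c.xs.central a ha).mul_left
    (mem_centralizer_singleton_iff.1 g.2)).eq, h1⟩

include hL hx hB in
theorem eq_of_comm_basis {g : G} (hz : g * z = z * g) (hg : ∀ i, g * x i = x i * g) :
    g = 1 ∨ g = z :=
  c.eq_of_comm hL (c.comm_of_basis B hx hB hz hg)

include hL hx hB in
/-- The lift is unique up to `z`. -/
theorem lift_unique {g g' : G} (hz : g * z = z * g) (hz' : g' * z = z * g')
    (h : ∀ i, g * x i * g⁻¹ = g' * x i * g'⁻¹) : g' = g ∨ g' = z * g := by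
  have h1 := c.eq_of_comm_basis hL B hx hB (g := g⁻¹ * g')
    ((show Commute g z from hz).inv_left.mul_left hz').eq fun i => by
      calc g⁻¹ * g' * x i = g⁻¹ * (g' * x i * g'⁻¹) * g' := by group
        _ = _ := by rw [← h]; group
  rcases h1 with h1 | h1
  · exact Or.inl (inv_mul_eq_one.1 h1).symm
  · right
    rw [← hz, ← h1]; group

include hx hB in
/-- The isometry induced by an element is determined by its action on a basis. -/
theorem rho_eq_of_basis {g : centralizer ({z} : Set G)} {γ : Orth.O q}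
    (h : ∀ i, c.π (g * x i * (g : G)⁻¹) = γ.1 (B i)) : c.rho hL g = γ := by
  apply Subtype.ext
  apply LinearEquiv.toLinearMap_injective
  refine B.ext fun i => ?_
  show (c.rho hL g).1 (B i) = γ.1 (B i)
  rw [← h, ← hB, c.rho_π hL g (hx i)]

end Basis

/-- Singular vectors and Witt's theorem: an isometry in the image moving `π a` to `π b` gives a
conjugacy of `a` and `b` in `C(z)`. -/
theorem exists_conj_of_apply_eq {γ : Orth.O q} (hγ : γ ∈ (c.rho hL).range) {a b : G}
    (ha : a ∈ Q) (hb : b ∈ Q) (h0 : c.π b ≠ 0) (h : γ.1 (c.π a) = c.π b) :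
    ∃ g : G, g * z = z * g ∧ g * a * g⁻¹ = b := by
  obtain ⟨g, rfl⟩ := hγ
  have hg := mem_centralizer_singleton_iff.1 g.2
  have h1 := conj_mem_of_mem_normalizer (hL.norm g hg) ha
  rw [c.rho_π hL g ha, c.π_eq_iff h1 hb] at h
  rcases h with h | h
  · exact ⟨g, hg, h⟩
  · obtain ⟨d, hd, h2⟩ := c.exists_conj_eq_z_mul hb h0
    refine ⟨d⁻¹ * g, ((show Commute d z from c.xs.central d hd).inv_left.mul_left hg).eq, ?_⟩
    calc d⁻¹ * g * a * (d⁻¹ * g)⁻¹ = d⁻¹ * (g * a * (g : G)⁻¹) * d := by group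
      _ = b := by rw [h, ← h2]; group

/-- If `C(z)` induces `Ω`, the non-central involutions of `Q` are conjugate in `C(z)`. -/
theorem exists_conj_invol [Finite G] (h5 : 5 ≤ Module.finrank (ZMod 2) V) (hI : Orth.IndexTwo q)
    (hr : (c.rho hL).range = commutator _) {a b : G} (ha : a ∈ Q) (hb : b ∈ Q) (ha2 : a * a = 1)
    (hb2 : b * b = 1) (ha0 : c.π a ≠ 0) (hb0 : c.π b ≠ 0) :
    ∃ g : G, g * z = z * g ∧ g * a * g⁻¹ = b := by
  have := c.finite
  have : Module.Finite (ZMod 2) V := Module.Finite.of_finite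
  have h1 := (c.sq_eq_one_iff ha).1 ha2
  obtain ⟨e, he, h2⟩ := hI.exists_E_apply_eq c.nondeg h1 ha0 ((c.sq_eq_one_iff hb).1 hb2) hb0
  rw [Orth.E_eq_commutator_of_five c.nondeg h5 h1 ha0, ← hr] at he
  exact c.exists_conj_of_apply_eq hL he ha hb hb0 h2

end Coord

/-- Squares of isometries lie in `Ω`. -/
theorem mul_self_mem_commutator {V : Type*} [AddCommGroup V] [Module (ZMod 2) V]
    [Module.Finite (ZMod 2) V] {q : QuadraticForm (ZMod 2) V} (hq : q.polarBilin.Nondegenerate)
    (hT : Orth.Tame q) (hV : 1 ≤ Module.finrank (ZMod 2) V) (γ : Orth.O q) :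
    γ * γ ∈ commutator (Orth.O q) :=
  mul_self_mem_of_index_two (Orth.index_commutator_even (Q := q) (by decide) hq hT hV) γ

/-- Isometries of odd order lie in `Ω`. -/
theorem mem_commutator_of_pow_eq_one {V : Type*} [AddCommGroup V] [Module (ZMod 2) V]
    [Module.Finite (ZMod 2) V] {q : QuadraticForm (ZMod 2) V} (hq : q.polarBilin.Nondegenerate)
    (hT : Orth.Tame q) (hV : 1 ≤ Module.finrank (ZMod 2) V) {γ : Orth.O q} {k : ℕ}
    (h : γ ^ (2 * k + 1) = 1) : γ ∈ commutator (Orth.O q) := by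
  have h1 : γ = (γ ^ (k + 1)) * (γ ^ (k + 1)) := by
    rw [← pow_add, show k + 1 + (k + 1) = 2 * k + 1 + 1 by ring, pow_succ, h, one_mul]
  rw [h1]
  exact mul_self_mem_commutator hq hT hV _

/-! ### The hypotheses of the recognition theorems -/

theorem relIndex_map_subtype {C : Subgroup G} (Q₀ : Subgroup C) [Q₀.Normal] :
    (Q₀.map C.subtype).relIndex C = Nat.card (C ⧸ Q₀) := by
  rw [relIndex, subgroupOf, comap_map_eq_self_of_injective C.subtype_injective]; rfl

theorem card_map_subtype {C : Subgroup G} (Q₀ : Subgroup C) :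
    Nat.card (Q₀.map C.subtype) = Nat.card Q₀ :=
  card_map_of_injective C.subtype_injective

/-- The version with the generalised Fitting subgroup. -/
theorem isLarge_of_genFitting [Finite G] (hz : orderOf z = 2)
    {Q₀ : Subgroup (centralizer ({z} : Set G))}
    (hF : generalizedFittingSubgroup (centralizer ({z} : Set G)) = Q₀) (hQ : IsExtraspecial 2 Q₀) :
    IsLarge (Q₀.map (centralizer ({z} : Set G)).subtype) z ∧
      ∀ a ∈ Q₀.map (centralizer ({z} : Set G)).subtype,
        (∀ b ∈ Q₀.map (centralizer ({z} : Set G)).subtype, a * b = b * a) → a = 1 ∨ a = z := by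
  subst hF
  obtain ⟨h1, h2⟩ := isXS_fstarOf_of_extraspecial hz hQ
  exact ⟨isLarge_fstarOf h1, h2⟩

/-- The version with a normal self-centralising extraspecial subgroup of the centraliser. -/
theorem isLarge_of_normal [Finite G] (hz : orderOf z = 2)
    {Q₀ : Subgroup (centralizer ({z} : Set G))} [Q₀.Normal] (hQ : IsExtraspecial 2 Q₀)
    (hC : centralizer (Q₀ : Set (centralizer ({z} : Set G))) ≤ Q₀) :
    IsLarge (Q₀.map (centralizer ({z} : Set G)).subtype) z ∧
      ∀ a ∈ Q₀.map (centralizer ({z} : Set G)).subtype,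
        (∀ b ∈ Q₀.map (centralizer ({z} : Set G)).subtype, a * b = b * a) → a = 1 ∨ a = z := by
  obtain ⟨z₀, h1, h2⟩ := exists_isXS_of_extraspecial hQ
  have hz1 : z ≠ 1 := by rintro rfl; simp at hz
  let z₁ : centralizer ({z} : Set G) := ⟨z, mem_centralizer_singleton_iff.2 rfl⟩
  have h3 : ∀ b : centralizer ({z} : Set G), z₁ * b = b * z₁ := fun b =>
    Subtype.ext (mem_centralizer_singleton_iff.1 b.2).symm
  have h4 : z₁ = z₀ := by
    refine (h2 z₁ (hC (mem_centralizer_iff.2 fun b _ => (h3 b).symm)) fun b _ => h3 b).resolve_left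
      fun h => hz1 (congrArg Subtype.val h)
  subst h4
  have h5 : IsXS (Q₀.map (centralizer ({z} : Set G)).subtype) z :=
    h1.map _ (centralizer ({z} : Set G)).subtype_injective
  have h6 : ∀ a ∈ Q₀.map (centralizer ({z} : Set G)).subtype,
      (∀ b ∈ Q₀.map (centralizer ({z} : Set G)).subtype, a * b = b * a) → a = 1 ∨ a = z := by
    rintro _ ⟨a, ha, rfl⟩ h
    rcases h2 a ha (fun b hb => Subtype.ext (h _ ⟨b, hb, rfl⟩)) with h7 | h7
    · exact Or.inl (congrArg Subtype.val h7)
    · exact Or.inr (congrArg Subtype.val h7)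
  refine ⟨isLarge_of_centralizer_le h5 h6 (fun g hg => ?_) fun g hg => ?_, h6⟩
  · refine mem_normalizer_of_conj_mem ?_
    rintro _ ⟨a, ha, rfl⟩
    exact ⟨⟨g, mem_centralizer_singleton_iff.2 hg⟩ * a * ⟨g, mem_centralizer_singleton_iff.2 hg⟩⁻¹,
      Normal.conj_mem inferInstance a ha _, rfl⟩
  · exact ⟨⟨g, mem_centralizer_singleton_iff.2 (hg z h5.mem)⟩,
      hC (mem_centralizer_iff.2 fun b hb => Subtype.ext (hg _ ⟨b, hb, rfl⟩).symm), rfl⟩

/-- A `2`-constrained group `C` with `C / O₂(C)` simple of even order has characteristic `2`. -/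
theorem centralizer_pCore_le_of_simple {C : Type*} [Group C] [Finite C]
    (hcon : IsPConstrained 2 C) [IsSimpleGroup (C ⧸ pCore 2 C)]
    (h2 : 2 ∣ Nat.card (C ⧸ pCore 2 C)) : centralizer (pCore 2 C : Set C) ≤ pCore 2 C := by
  have : Fact (Nat.Prime 2) := ⟨Nat.prime_two⟩
  refine (PL.isPConstrained_iff_of_pPrimeCore_eq_bot ?_).1 hcon
  have hc := Even.pPrimeCore_coprime' (G := C) 2
  have hn : (pPrimeCore 2 C).Normal := inferInstance
  rcases (hn.map _ (QuotientGroup.mk'_surjective (pCore 2 C))).eq_bot_or_eq_top with h | h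
  · rw [Subgroup.map_eq_bot_iff, QuotientGroup.ker_mk'] at h
    have h3 := PL.inf_eq_bot_of_isPGroup_of_coprime (Even.pCore_isPGroup' (G := C) 2) hc
    rwa [inf_eq_right.2 h] at h3
  · exfalso
    have h3 := card_map_dvd (pPrimeCore 2 C) (QuotientGroup.mk' (pCore 2 C))
    rw [h, card_top] at h3
    exact (Nat.Prime.coprime_iff_not_dvd Nat.prime_two).1 hc.symm (h2.trans h3)

/-- The version with `O₂(C(z))` for a `2`-constrained centraliser. -/
theorem isLarge_of_constrained [Finite G] (hz : orderOf z = 2)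
    (hcon : IsPConstrained 2 (centralizer ({z} : Set G)))
    (hQ : IsExtraspecial 2 (pCore 2 (centralizer ({z} : Set G))))
    [IsSimpleGroup (centralizer ({z} : Set G) ⧸ pCore 2 (centralizer ({z} : Set G)))]
    (h2 : 2 ∣ Nat.card (centralizer ({z} : Set G) ⧸ pCore 2 (centralizer ({z} : Set G)))) :
    IsLarge ((pCore 2 (centralizer ({z} : Set G))).map (centralizer ({z} : Set G)).subtype) z ∧
      ∀ a ∈ (pCore 2 (centralizer ({z} : Set G))).map (centralizer ({z} : Set G)).subtype,
        (∀ b ∈ (pCore 2 (centralizer ({z} : Set G))).map (centralizer ({z} : Set G)).subtype,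
          a * b = b * a) → a = 1 ∨ a = z :=
  isLarge_of_normal hz hQ (centralizer_pCore_le_of_simple hcon h2)

/-! ### The groups `Ω⁻(6, 2)` and `Ω⁺(8, 2)` -/

theorem card_O_minus_six : Nat.card (Orth.O (Orth.qMinus 2 (ZMod 2) 1 1)) = 51840 := by
  rw [Orth.card_O_qMinus aniso_one_one, Nat.card_zmod]; decide

theorem card_O_plus_six : Nat.card (Orth.O (Orth.qPlus 3 (ZMod 2))) = 40320 := by
  rw [Orth.card_O_qPlus, Nat.card_zmod]; decide

theorem card_O_minus_eight : Nat.card (Orth.O (Orth.qMinus 3 (ZMod 2) 1 1)) = 394813440 := by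
  rw [Orth.card_O_qMinus aniso_one_one, Nat.card_zmod]; decide

theorem card_O_plus_eight : Nat.card (Orth.O (Orth.qPlus 4 (ZMod 2))) = 348364800 := by
  rw [Orth.card_O_qPlus, Nat.card_zmod]; decide

theorem nondeg_minus (m : ℕ) : (Orth.qMinus m (ZMod 2) 1 1).polarBilin.Nondegenerate :=
  Orth.qMinus_nondegenerate m (by decide)

theorem tame_minus_six : Orth.Tame (Orth.qMinus 2 (ZMod 2) 1 1) :=
  Orth.tame_of_finrank_ne_four (nondeg_minus 2) (by rw [Orth.finrank_minus]; decide)

theorem tame_plus_eight : Orth.Tame (Orth.qPlus 4 (ZMod 2)) :=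
  Orth.tame_of_finrank_ne_four (Orth.qPlus_nondegenerate 4) (by rw [Orth.finrank_plus]; decide)

theorem card_Omega_mul_two {ι : Type} [Fintype ι] [DecidableEq ι]
    {q : QuadraticForm (ZMod 2) (ι → ZMod 2)} (hq : q.polarBilin.Nondegenerate) (hT : Orth.Tame q)
    (hV : 1 ≤ Module.finrank (ZMod 2) (ι → ZMod 2)) :
    Nat.card (Omega (ZMod 2) ⇑q) * 2 = Nat.card (Orth.O q) := by
  rw [Nat.card_congr (Orth.omegaEquiv q).toEquiv, ← (commutator (Orth.O q)).card_mul_index,
    Orth.index_commutator_even (Q := q) (by decide) hq hT hV]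

theorem card_Omega_minus_six : Nat.card (Omega (ZMod 2) (quadFormMinus 2 (ZMod 2) 1 1)) = 25920 := by
  have := card_Omega_mul_two (nondeg_minus 2) tame_minus_six (by rw [Orth.finrank_minus]; decide)
  rw [card_O_minus_six, Orth.coe_qMinus] at this
  omega

theorem card_Omega_plus_eight :
    Nat.card (Omega (ZMod 2) (quadFormPlus 4 (ZMod 2))) = 174182400 := by
  have := card_Omega_mul_two (Orth.qPlus_nondegenerate 4) tame_plus_eight
    (by rw [Orth.finrank_plus]; decide)
  rw [card_O_plus_eight, Orth.coe_qPlus] at this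
  omega

theorem isSimpleGroup_Omega {ι : Type} [Fintype ι] [DecidableEq ι]
    {q : QuadraticForm (ZMod 2) (ι → ZMod 2)} (hq : q.polarBilin.Nondegenerate)
    (h5 : 5 ≤ Module.finrank (ZMod 2) (ι → ZMod 2)) (hI : Orth.IndexTwo q) :
    IsSimpleGroup (Omega (ZMod 2) ⇑q) := by
  have h1 := Orth.isSimpleGroup_pomega hq h5 hI
  obtain ⟨u, -, hu, -, -, hu0, -⟩ := hI
  have h2 := Orth.card_center_commutator hq (Orth.tame_of_finrank_ne_four hq (by omega)) hu hu0
    (by omega)
  rw [if_neg (fun h => h.1 (by decide)), ← Orth.card_center_congr (Orth.omegaEquiv q),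
    card_eq_one] at h2
  exact ((QuotientGroup.quotientMulEquivOfEq h2).trans QuotientGroup.quotientBot).symm.isSimpleGroup

theorem isSimpleGroup_Omega_plus_eight :
    IsSimpleGroup (Omega (ZMod 2) (quadFormPlus 4 (ZMod 2))) :=
  isSimpleGroup_Omega (Orth.qPlus_nondegenerate 4) (by rw [Orth.finrank_plus]; decide)
    (Orth.indexTwo_qPlus (by decide))

theorem isSimpleGroup_Omega_minus_six :
    IsSimpleGroup (Omega (ZMod 2) (quadFormMinus 2 (ZMod 2) 1 1)) :=
  isSimpleGroup_Omega (nondeg_minus 2) (by rw [Orth.finrank_minus]; decide)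
    (Orth.indexTwo_qMinus (by decide) 1 1)

/-- `|Q| = 2 ^ 7`, `|C(z) : Q| = |Ω⁻(6, 2)|`: `Q` has minus type and `C(z)` induces `Ω`. -/
theorem exists_coord_minus_six [Finite G] (hL : IsLarge Q z)
    (hc : ∀ a ∈ Q, (∀ b ∈ Q, a * b = b * a) → a = 1 ∨ a = z) (hcard : Nat.card Q = 2 ^ 7)
    (hi : Q.relIndex (centralizer ({z} : Set G)) = 25920) :
    ∃ c : Coord Q z (Orth.qMinus 2 (ZMod 2) 1 1), (c.rho hL).range = commutator _ := by
  rcases exists_coord_plus_or_minus hL.xs hc (m := 2) hcard with ⟨⟨c⟩⟩ | ⟨⟨c⟩⟩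
  · have := c.relIndex_dvd hL
    rw [hi, card_O_plus_six] at this
    omega
  · exact ⟨c, c.range_rho_eq hL tame_minus_six (by rw [Orth.finrank_minus]; decide)
      (by rw [hi, card_O_minus_six])⟩

/-- `|Q| = 2 ^ 9`, `|C(z) : Q| = |Ω⁺(8, 2)|`: `Q` has plus type and `C(z)` induces `Ω`. -/
theorem exists_coord_plus_eight [Finite G] (hL : IsLarge Q z)
    (hc : ∀ a ∈ Q, (∀ b ∈ Q, a * b = b * a) → a = 1 ∨ a = z) (hcard : Nat.card Q = 2 ^ 9)
    (hi : Q.relIndex (centralizer ({z} : Set G)) = 174182400) :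
    ∃ c : Coord Q z (Orth.qPlus 4 (ZMod 2)), (c.rho hL).range = commutator _ := by
  rcases exists_coord_plus_or_minus hL.xs hc (m := 3) hcard with ⟨⟨c⟩⟩ | ⟨⟨c⟩⟩
  · exact ⟨c, c.range_rho_eq hL tame_plus_eight (by rw [Orth.finrank_plus]; decide)
      (by rw [hi, card_O_plus_eight])⟩
  · have := c.relIndex_dvd hL
    rw [hi, card_O_minus_eight] at this
    omega

/-- The hypotheses of the `Suz` recognition theorems in ambient form. -/
theorem suz_setup [Finite G] (hz : orderOf z = 2) (Q₀ : Subgroup (centralizer ({z} : Set G)))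
    [Q₀.Normal] (hF : generalizedFittingSubgroup (centralizer ({z} : Set G)) = Q₀)
    (hQ : IsExtraspecial 2 Q₀) (hcard : Nat.card Q₀ = 2 ^ 7)
    (e : centralizer ({z} : Set G) ⧸ Q₀ ≃* Omega (ZMod 2) (quadFormMinus 2 (ZMod 2) 1 1)) :
    ∃ (hL : IsLarge (Q₀.map (centralizer ({z} : Set G)).subtype) z)
      (c : Coord (Q₀.map (centralizer ({z} : Set G)).subtype) z (Orth.qMinus 2 (ZMod 2) 1 1)),
      (c.rho hL).range = commutator _ := by
  obtain ⟨hL, hc⟩ := isLarge_of_genFitting hz hF hQ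
  exact ⟨hL, exists_coord_minus_six hL hc (by rw [card_map_subtype, hcard])
    (by rw [relIndex_map_subtype, Nat.card_congr e.toEquiv, card_Omega_minus_six])⟩

/-- The hypotheses of the `Co₁` recognition theorem (`F*` version) in ambient form. -/
theorem co1_setup [Finite G] (hz : orderOf z = 2) (Q₀ : Subgroup (centralizer ({z} : Set G)))
    [Q₀.Normal] (hF : generalizedFittingSubgroup (centralizer ({z} : Set G)) = Q₀)
    (hQ : IsExtraspecial 2 Q₀) (hcard : Nat.card Q₀ = 2 ^ 9)
    (e : centralizer ({z} : Set G) ⧸ Q₀ ≃* Omega (ZMod 2) (quadFormPlus 4 (ZMod 2))) :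
    ∃ (hL : IsLarge (Q₀.map (centralizer ({z} : Set G)).subtype) z)
      (c : Coord (Q₀.map (centralizer ({z} : Set G)).subtype) z (Orth.qPlus 4 (ZMod 2))),
      (c.rho hL).range = commutator _ := by
  obtain ⟨hL, hc⟩ := isLarge_of_genFitting hz hF hQ
  exact ⟨hL, exists_coord_plus_eight hL hc (by rw [card_map_subtype, hcard])
    (by rw [relIndex_map_subtype, Nat.card_congr e.toEquiv, card_Omega_plus_eight])⟩

/-- The hypotheses of the `Co₁` recognition theorem (`O₂` version) in ambient form. -/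
theorem co1_setup' [Finite G] (hz : orderOf z = 2)
    (hcon : IsPConstrained 2 (centralizer ({z} : Set G)))
    (hQ : IsExtraspecial 2 (pCore 2 (centralizer ({z} : Set G))))
    (hcard : Nat.card (pCore 2 (centralizer ({z} : Set G))) = 2 ^ 9)
    (e : centralizer ({z} : Set G) ⧸ pCore 2 (centralizer ({z} : Set G)) ≃*
      Omega (ZMod 2) (quadFormPlus 4 (ZMod 2))) :
    ∃ (hL : IsLarge ((pCore 2 (centralizer ({z} : Set G))).map
        (centralizer ({z} : Set G)).subtype) z)
      (c : Coord ((pCore 2 (centralizer ({z} : Set G))).map (centralizer ({z} : Set G)).subtype) z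
        (Orth.qPlus 4 (ZMod 2))),
      (c.rho hL).range = commutator _ := by
  have := isSimpleGroup_Omega_plus_eight
  have := e.isSimpleGroup
  have h1 := (Nat.card_congr e.toEquiv).trans card_Omega_plus_eight
  obtain ⟨hL, hc⟩ := isLarge_of_constrained hz hcon hQ (by rw [h1]; decide)
  exact ⟨hL, exists_coord_plus_eight hL hc (by rw [card_map_subtype, hcard])
    (by rw [relIndex_map_subtype, h1])⟩

end CL.LEx
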